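import Cfsg.Agent.SP.NTh.NL.Excl
import Cfsg.Agent.SP.NTh.P.Main
import Cfsg.Agent.OrdDiv.Table

/-! # S5755, row `Th`: the boxes `Red` and `NL` (helper77) -/

set_option autoImplicit false
set_option maxRecDepth 100000
set_option linter.style.haveILetI false

namespace Cfsg.Agent.SP.NTh.NL

open Subgroup Cfsg.Agent.SP Cfsg.Agent.OrdDiv
open Cfsg.Agent.SP.Mon.NL (LM exists_name exists_min exists_comp card_dvd_aut order_mul_dvd eq_one_of_comm
  inf_eq_of_simple card_cent_dvd)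

theorem name (hC : CFSG.{0}) {S : Type} [Group S] [Finite S] [IsSimpleGroup S] (hna : ¬ ∀ a b : S, a * b = b * a)
    (hd : Nat.card S ∣ 90745943887872000) :
    ∃ e ∈ LM, Real e.1 S ∧ Nat.card S = e.2.1 ∧ Nat.card (MulAut S) ∣ e.2.2 * e.2.1 :=
  exists_name ⟨OrdDiv.table, fun S _ _ _ => hC S⟩ hna (hd.trans (by norm_num))

/-- the test for an extension of degree `k` of a socle of order `o` -/
def chkK (o k : ℕ) : Bool :=
  Nat.blt 0 (90745943887872000 % (k * o)) || syl o k 13 468 || syl o k 31 465 ||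
    (Nat.beq (72 % k) 0 && (Nat.blt 0 (k % 2) || pass2 (k * o)) &&
      (Nat.blt 0 (k % 3) || (Nat.blt 0 (k % 9) && (pass3 (k * o) 0 ||
        (Nat.beq (o % 125) 0 && (pass3 (k * o) 2 || (Nat.beq k 6 && pass3 (3 * o) 2)))))))

/-- the test for a socle -/
def chkA (e : Grp × ℕ × ℕ) : Bool :=
  Nat.blt 0 (90745943887872000 % e.2.1) || exN e.1 || (ex15 e.1 && Nat.beq (e.2.1 % 25) 0 && Nat.blt 0 (e.2.1 % 125)) ||
    Nat.beq e.2.1 5515776 || Nat.beq e.2.1 211341312 || Nat.beq e.2.1 3265920 || Nat.beq e.2.1 4245696 ||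
    (List.range (e.2.2 + 1)).all fun k => Nat.blt 0 (e.2.2 % k) || Nat.beq k 1 || chkK e.2.1 k

theorem chkA_all : (LM.all fun e => Nat.blt 0 e.2.2 && chkA e) = true := by decide +kernel

theorem false_of_chkK (hT : Thr) {A B L : Subgroup Th} (h : AS A B L) (hk : chkK (Nat.card L) (L.relIndex A) = true) :
    False := by
  haveI := finTh
  have hp := h.pair.pair
  have hLA : L ≤ A := h.le.trans hp.le
  have hcard : L.relIndex A * Nat.card L = Nat.card A := by rw [mul_comm, NegS.card_mul_relIndex hLA]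
  have hBk : B.relIndex A ∣ L.relIndex A := relIndex_dvd_of_le_left A h.le
  simp only [chkK, Bool.and_eq_true, Bool.or_eq_true, Nat.blt_eq, Nat.beq_eq] at hk
  rw [hcard] at hk
  rcases hk with ((hk | hk) | hk) | ⟨⟨h72, h2⟩, h3⟩
  · exact hk.ne' (Nat.mod_eq_zero_of_dvd (sub_dvd A))
  · exact false_of_syl hLA h.norm (by norm_num) (by rw [cardTh]; norm_num) (by norm_num) norm13 hk
  · exact false_of_syl hLA h.norm (by norm_num) (by rw [cardTh]; norm_num) (by norm_num) norm31 hk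
  rcases NegS.two_or_odd h.pair with e | ⟨r, hr, hr2, hd⟩
  · rcases h2 with h2 | h2
    · exact h2.ne' (Nat.mod_eq_zero_of_dvd (e ▸ hBk))
    · exact kill2 hT hp e h2
  have hr3 : r = 3 := by
    have k1 : r ∣ 2 ^ 3 * 3 ^ 2 := (hd.trans hBk).trans (Nat.dvd_of_mod_eq_zero h72)
    rcases hr.dvd_mul.1 k1 with k2 | k2
    · exact absurd ((Nat.prime_dvd_prime_iff_eq hr Nat.prime_two).1 (hr.dvd_of_dvd_pow k2)) hr2
    · exact (Nat.prime_dvd_prime_iff_eq hr Nat.prime_three).1 (hr.dvd_of_dvd_pow k2)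
  subst hr3
  rcases h3 with h3 | ⟨h9, h3⟩
  · exact h3.ne' (Nat.mod_eq_zero_of_dvd (hd.trans hBk))
  have h9' : ¬ 9 ∣ L.relIndex A := fun e => h9.ne' (Nat.mod_eq_zero_of_dvd e)
  rcases h3 with h3 | ⟨h125, h3⟩
  · exact kill3 hT hp hd hBk h9' le_rfl (fun _ hx _ _ => hx) (Or.inl rfl) h3
  have hδ := exists_outC hp hd h.le h.norm (Nat.dvd_of_mod_eq_zero h125)
  rcases h3 with h3 | ⟨h6, h3⟩
  · exact kill3 hT hp hd hBk h9' le_rfl (fun _ hx _ _ => hx) (Or.inr ⟨rfl, hδ⟩) h3
  obtain ⟨H, hHA, hH⟩ := exists_half h.norm h6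
  have k1 := NegS.card_mul_relIndex hHA
  rw [hH] at k1
  rw [h6] at hcard
  refine kill3 hT hp hd hBk h9' hHA (fun _ hx _ hj => mem_of_half hH hx hj) (Or.inr ⟨rfl, hδ⟩) ?_
  rwa [show Nat.card H = 3 * Nat.card L by omega]

theorem chkC_all : (LM.all fun e => Nat.ble 60 e.2.1 && Nat.blt 0 (125 % e.2.1) &&
    (Nat.blt 0 (90745943887872000 % e.2.1) || Nat.beq (e.2.1 % 5) 0 || Nat.beq (e.2.1 % 13) 0 || Nat.beq (e.2.1 % 19) 0 ||
      Nat.beq (e.2.1 % 31) 0 ||
      (Nat.beq (e.2.1 % 7) 0 && (Nat.blt 168 e.2.1 || (Nat.beq e.2.1 168 && Nat.beq e.2.2 2))))) = true := by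
  decide +kernel

/-- **Two commuting components.** -/
theorem comp_dvd (hC : CFSG.{0}) {A : Subgroup Th} {T T' : Subgroup A} (hT : IsSimpleGroup T)
    (hna : ¬ ∀ a b : T, a * b = b * a) (hk : Nat.card T ^ (normalizer (T : Set A)).index ∣ Nat.card A)
    (hc : ∀ x ∈ T, ∀ y ∈ T', Commute x y) (hle : Nat.card T ≤ Nat.card T') : Nat.card A ∣ 112896 := by
  haveI := finTh
  have hTd : Nat.card T ∣ 90745943887872000 := T.card_subgroup_dvd_card.trans (sub_dvd A)
  obtain ⟨e, he, -, ho, ha⟩ := name hC hna hTd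
  have h := List.all_eq_true.1 chkC_all e he
  simp only [Bool.and_eq_true, Bool.or_eq_true, Nat.beq_eq, Nat.blt_eq, Nat.ble_eq] at h
  rw [← ho] at h ha
  obtain ⟨⟨h60, h125⟩, h⟩ := h
  set K := centralizer (T : Set A) with hK
  have hT'K : T' ≤ K := fun y hy x hx => (hc x hx y hy).eq
  have hcK : ∀ x ∈ T, ∀ y ∈ K, Commute x y := fun x hx y hy => hy x hx
  have hd : ∀ x ∈ T, x ∈ K → x = 1 := fun x hx hxK => eq_one_of_comm hT hna hx fun y hy => (hxK y hy).symm
  have hKle : Nat.card T ≤ Nat.card K := hle.trans (card_le_of_le hT'K)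
  have key : ∀ {p c : ℕ}, p.Prime → Nat.card T % p = 0 →
      (∀ y : Th, orderOf y = p → Nat.card (centralizer ({y} : Set Th)) = p * c) → Nat.card K ∣ c := by
    intro p c hp h0 h1
    obtain ⟨x, hx, hxo, -⟩ := NegS.exists_sub hp (Nat.dvd_of_mod_eq_zero h0)
    have h2 := (order_mul_dvd hd hcK hx).trans (card_cent_dvd A.subtype A.subtype_injective x)
    rw [h1 _ (by rw [orderOf_injective _ A.subtype_injective, hxo]), hxo] at h2
    exact Nat.dvd_of_mul_dvd_mul_left hp.pos h2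
  rcases h with ((((h | h) | h) | h) | h) | ⟨h, h7⟩
  · exact absurd (Nat.mod_eq_zero_of_dvd hTd) h.ne'
  · exfalso
    have k1 := key (c := 600) Nat.prime_five h fun _ => c5
    have k2 : 5 ∣ Nat.card K := by
      by_contra k2
      have k3 := Nat.le_of_dvd (by norm_num) (Cfsg.Agent.H502.TO.dvd_of_not_pow (m := 24) (k := 2) (j := 0)
        Nat.prime_five k1 k2)
      omega
    obtain ⟨y, hy, hyo, -⟩ := NegS.exists_sub Nat.prime_five k2
    obtain ⟨x, hx, hxo, -⟩ := NegS.exists_sub Nat.prime_five (Nat.dvd_of_mod_eq_zero h)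
    obtain ⟨P, hP, hPle, hPn⟩ := exists_P (y := (y : Th)) (by rw [orderOf_coe, hyo])
    have k3 : ∀ s ∈ T, (s : Th) ∈ centralizer ({(y : Th)} : Set Th) := fun s hs =>
      mem_centralizer_singleton_iff.2 (congrArg Subtype.val (hcK s hs y hy).eq)
    rcases inf_eq_of_simple hT (U := P.subgroupOf A) (fun s hs u hu => NegS.conj_mem_of_le hPn (k3 s hs) hu) with k4 | k4
    · have k5 : x ∈ P.subgroupOf A ⊓ T := ⟨hPle (zpowers (x : Th))
        (IsPGroup.of_card (n := 1) (by rw [Nat.card_zpowers, orderOf_coe, hxo]; rfl)) (zpowers_le.2 (k3 x hx))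
        (mem_zpowers _), hx⟩
      rw [k4, mem_bot] at k5
      rw [k5, orderOf_one] at hxo
      omega
    · have k5 : T.map A.subtype ≤ P := map_le_iff_le_comap.2 k4
      have k6 := card_dvd_of_le k5
      rw [card_map_of_injective A.subtype_injective, hP] at k6
      exact h125.ne' (Nat.mod_eq_zero_of_dvd k6)
  · have := Nat.le_of_dvd (by norm_num) (key (c := 3) (by norm_num) h fun _ => c13)
    omega
  · have := Nat.le_of_dvd (by norm_num) (key (c := 1) (by norm_num) h fun _ => c19)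
    omega
  · have := Nat.le_of_dvd (by norm_num) (key (c := 1) (by norm_num) h fun _ => c31)
    omega
  have k1 := key (c := 168) (by norm_num) h fun _ => c7
  have k2 := Nat.le_of_dvd (by norm_num) k1
  obtain ⟨k3, k4⟩ := h7.resolve_left (by omega)
  have k5 : (normalizer (T : Set A)).index ∣ 2 := by
    have k6 : (normalizer (T : Set A)).index ≠ 0 := index_ne_zero_of_finite
    have k7 : (normalizer (T : Set A)).index < 3 := by
      by_contra k7
      have k8 := ((pow_dvd_pow _ (not_lt.1 k7)).trans hk).trans (sub_dvd A)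
      rw [k3] at k8
      norm_num at k8
    generalize (normalizer (T : Set A)).index = i at k6 k7
    interval_cases i <;> simp at k6 ⊢
  rw [k3, k4] at ha
  exact (card_dvd_aut T).trans (Nat.mul_dvd_mul k5 (Nat.mul_dvd_mul ha k1))

end Cfsg.Agent.SP.NTh.NL

namespace Cfsg.Agent.SP.NTh

open Subgroup Cfsg.Agent.SP Cfsg.Agent.OrdDiv NL
open Cfsg.Agent.SP.Mon.NL (exists_min exists_comp)

/-- **Box `Red`.** -/
theorem boxRed : BoxRed := by
  intro hC hT A B h hN
  haveI := finTh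
  haveI : IsSimpleGroup Th := Cfsg.Agent.Th.Final.isSimple
  have hinj := A.subtype_injective
  have hp : ∀ N : Subgroup A, N.Normal → N ≠ ⊥ → ∀ p : ℕ, p.Prime → ¬ IsPGroup p N := by
    intro N hN' h0 p hp hpN
    refine hN p hp ⟨N.map A.subtype, fun e => h0 ((map_eq_bot_iff_of_injective _ hinj).1 e), hpN.map _, ?_⟩
    rw [le_normalizer_iff]
    rintro a ha _ ⟨v, hv, rfl⟩
    exact ⟨_, hN'.conj_mem v hv ⟨a, ha⟩, rfl⟩
  have fin : ∀ {T T' : Subgroup A}, IsSimpleGroup T → (¬ ∀ a b : T, a * b = b * a) →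
      Nat.card T ^ (normalizer (T : Set A)).index ∣ Nat.card A → (∀ x ∈ T, ∀ y ∈ T', Commute x y) →
      Nat.card T ≤ Nat.card T' → False := by
    intro T T' k1 k2 k3 k4 k5
    have k6 := comp_dvd hC k1 k2 k3 k4 k5
    have k7 := nOrd_sq k6 (by norm_num)
    rw [show KB 112896 = 3481 by decide +kernel] at k7
    refine P.kill hT h.pair ((Nat.le_of_dvd (by norm_num) k6).trans (by norm_num)) ?_
    by_contra k8
    have k9 := Nat.pow_le_pow_left (not_le.1 k8).le 2
    omega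
  have one : ∀ {T : Subgroup A}, T.Normal → Nat.card T ^ (normalizer (T : Set A)).index ∣ Nat.card A := by
    intro T _
    rw [normalizer_eq_top, index_top, pow_one]
    exact T.card_subgroup_dvd_card
  have hB0 : B.subgroupOf A ≠ ⊥ := fun e => NegS.B_ne_bot h.pair (by
    rw [← map_subgroupOf_eq_of_le h.pair.le, e, Subgroup.map_bot])
  obtain ⟨N, hNB, hN', hN0, hmin⟩ := exists_min h.pair.2.2.1 hB0
  obtain ⟨S, -, hs, hna, hk, rfl | ⟨S', -, k1, k2⟩⟩ := exists_comp N hN0 hmin (hp N hN' hN0)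
  swap
  · exact (fin hs hna hk k2 k1.ge).elim
  by_cases hc : centralizer (S : Set A) = ⊥
  · let e : S ≃* S.map A.subtype := S.equivMapOfInjective _ hinj
    refine ⟨S.map A.subtype, h, hN, e.symm.isSimpleGroup_congr.2 hs, fun k => hna fun a b => ?_, ?_, ?_, ?_⟩
    · apply e.injective
      rw [map_mul, map_mul]
      exact k _ _
    · rintro _ ⟨x, hx, rfl⟩
      exact hNB hx
    · rw [le_normalizer_iff]
      rintro a ha _ ⟨x, hx, rfl⟩
      exact ⟨_, hN'.conj_mem x hx ⟨a, ha⟩, rfl⟩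
    · intro a ha k
      have : (⟨a, ha⟩ : A) ∈ centralizer (S : Set A) := fun s hs => Subtype.ext (k s ⟨s, hs, rfl⟩).symm
      rw [hc, mem_bot] at this
      exact congrArg Subtype.val this
  · exfalso
    obtain ⟨N', hNC, hN'', hN0', hmin'⟩ := exists_min (K := centralizer (S : Set A)) inferInstance hc
    obtain ⟨S', -, hs', hna', hk', rfl | ⟨S'', -, k1, k2⟩⟩ := exists_comp N' hN0' hmin' (hp N' hN'' hN0')
    swap
    · exact fin hs' hna' hk' k2 k1.ge
    have hc' : ∀ x ∈ S, ∀ y ∈ S', Commute x y := fun x hx y hy => hNC hy x hx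
    rcases le_total (Nat.card S) (Nat.card S') with k | k
    · exact fin hs hna (one hN') hc' k
    · exact fin hs' hna' (one hN'') (fun x hx y hy => (hc' y hy x hx).symm) k

/-- **Box `NL`.** -/
theorem boxNL : BoxNL := by
  intro hC hT A B L h
  haveI := finTh
  haveI := h.simple
  have hp := h.pair.pair
  have hLA : L ≤ A := h.le.trans hp.le
  obtain ⟨e, he, hr, ho, ha⟩ := name hC h.nonab (sub_dvd L)
  have hA : Nat.card A ∣ Nat.card (MulAut L) := by
    refine card_dvd_of_injective (L.normalizerMonoidHom.comp (inclusion h.norm)) ((injective_iff_map_eq_one _).2 ?_)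
    intro a ha
    refine Subtype.ext (h.cent a a.2 fun s hs => ?_)
    have h3 : (a : Th) * s * (a : Th)⁻¹ = s := congrArg (fun f : MulAut L => ((f ⟨s, hs⟩ : L) : Th)) ha
    exact mul_inv_eq_iff_eq_mul.1 h3
  have hk := NegS.card_mul_relIndex hLA
  have hdk : L.relIndex A ∣ e.2.2 := by
    have h3 := hA.trans ha
    rw [← hk, ← ho, mul_comm] at h3
    exact Nat.dvd_of_mul_dvd_mul_right Nat.card_pos h3
  have hk1 : L.relIndex A ≠ 1 := fun e =>
    hp.relIndex_ne_one (Nat.dvd_one.1 (e ▸ relIndex_dvd_of_le_left A h.le))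
  have h3 := List.all_eq_true.1 chkA_all e he
  simp only [chkA, Bool.and_eq_true, Bool.or_eq_true, Nat.blt_eq, List.all_eq_true, List.mem_range, Nat.beq_eq] at h3
  rw [← ho] at h3
  obtain ⟨h0, ((((((h3 | h3) | ⟨⟨h3, h4⟩, h5⟩) | h3) | h3) | h3) | h3) | h3⟩ := h3
  · exact absurd (Nat.mod_eq_zero_of_dvd (sub_dvd L)) h3.ne'
  · exact (false_of_exN h3 hr).elim
  · exact (false_of_ex15 h3 hr (Nat.dvd_of_mod_eq_zero h4) fun e => h5.ne' (Nat.mod_eq_zero_of_dvd e)).elim
  · exact Or.inl h3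
  · exact Or.inr (Or.inl h3)
  · exact Or.inr (Or.inr (Or.inl h3))
  · exact Or.inr (Or.inr (Or.inr h3))
  · rcases h3 _ (Nat.lt_succ_of_le (Nat.le_of_dvd h0 hdk)) with (h4 | h4) | h4
    · exact absurd (Nat.mod_eq_zero_of_dvd hdk) h4.ne'
    · exact absurd h4 hk1
    · exact (false_of_chkK hT h h4).elim

end Cfsg.Agent.SP.NTh
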