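import Cfsg.Agent.SP.NTh.NL.Gen
import Cfsg.Agent.SP.NTh.Base
import Cfsg.Agent.H513.L5.ThA
import Cfsg.Agent.H444.ThLoc

/-! # S5755, row `Th`, boxes `Red` and `NL`: the numerical tests (helper77) -/

set_option autoImplicit false
set_option linter.style.haveILetI false

namespace Cfsg.Agent.SP.NTh.NL

open Subgroup Cfsg.Agent.SP
open Cfsg.Agent.SP.Mon.NL (np np_true np_split exists_pow_order)

theorem primes {q : ℕ} (hq : q.Prime) (h : q ∣ 90745943887872000) :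
    q = 2 ∨ q = 3 ∨ q = 5 ∨ q = 7 ∨ q = 13 ∨ q = 19 ∨ q = 31 := by
  have h1 : q ∣ 2 ^ 15 * 3 ^ 10 * 5 ^ 3 * 7 ^ 2 * 13 * 19 * 31 := h
  have sm : ∀ {p k : ℕ}, p.Prime → q ∣ p ^ k → q = p := fun hp h =>
    (Nat.prime_dvd_prime_iff_eq hq hp).1 (hq.dvd_of_dvd_pow h)
  simp only [hq.dvd_mul] at h1
  rcases h1 with (((((h1 | h1) | h1) | h1) | h1) | h1) | h1
  · have := sm Nat.prime_two h1; omega
  · have := sm Nat.prime_three h1; omega
  · have := sm Nat.prime_five h1; omega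
  · have := sm (by norm_num : Nat.Prime 7) h1; omega
  · have := (Nat.prime_dvd_prime_iff_eq hq (by norm_num)).1 h1; omega
  · have := (Nat.prime_dvd_prime_iff_eq hq (by norm_num)).1 h1; omega
  · have := (Nat.prime_dvd_prime_iff_eq hq (by norm_num)).1 h1; omega

theorem ord_dvd (g : Th) : orderOf g ∣ 90745943887872000 := by
  rw [← cardTh]; exact orderOf_dvd_natCard g

theorem cent_dvd {g : Th} {q c : ℕ} (h : q ∣ orderOf g)
    (hc : ∀ y : Th, orderOf y = q → Nat.card (centralizer ({y} : Set Th)) = c) :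
    Nat.card (centralizer ({g} : Set Th)) ∣ c := by
  haveI := finTh
  obtain ⟨m, hm⟩ := exists_pow_order h
  rw [← hc _ hm]
  exact card_dvd_of_le (cent_le_pow g m)

theorem dvd_120 {d : ℕ} (h : d ∣ 3000) (h25 : ¬ 25 ∣ d) : d ∣ 120 :=
  Cfsg.Agent.H502.TO.dvd_of_not_pow (m := 24) (k := 3) (j := 1) Nat.prime_five h h25

/-- a bound for the number of classes met by products of two involutions -/
def KB (n : ℕ) : ℕ := Nat.gcd n (2 ^ 15 * 3 ^ 10) + Nat.gcd n 125 + max 120 (Nat.gcd n 1176)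

theorem cent_rest {X : Subgroup Th} {g : Th} {n : ℕ} (hn : Nat.card X ∣ n) (hn0 : 0 < n)
    (h1 : ¬ ∀ q : ℕ, q.Prime → q ∣ orderOf g → q = 2 ∨ q = 3) (h2 : ¬ ∀ q : ℕ, q.Prime → q ∣ orderOf g → q = 5) :
    Nat.card (X ⊓ centralizer ({g} : Set Th) : Subgroup Th) ≤ max 120 (Nat.gcd n 1176) := by
  haveI := finTh
  have hX := (card_dvd_of_le (inf_le_left : X ⊓ centralizer ({g} : Set Th) ≤ _)).trans hn
  have hC := card_dvd_of_le (inf_le_right : X ⊓ centralizer ({g} : Set Th) ≤ _)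
  have big : ∀ q : ℕ, q ∣ orderOf g → q = 7 ∨ q = 13 ∨ q = 19 ∨ q = 31 →
      Nat.card (X ⊓ centralizer ({g} : Set Th) : Subgroup Th) ≤ max 120 (Nat.gcd n 1176) := by
    rintro q hd (rfl | rfl | rfl | rfl)
    · exact le_max_of_le_right (Nat.le_of_dvd (Nat.gcd_pos_of_pos_left _ hn0)
        (Nat.dvd_gcd hX (hC.trans (cent_dvd hd fun _ => c7))))
    · exact le_max_of_le_left ((Nat.le_of_dvd (by norm_num) (hC.trans (cent_dvd hd fun _ => c13))).trans (by norm_num))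
    · exact le_max_of_le_left ((Nat.le_of_dvd (by norm_num) (hC.trans (cent_dvd hd fun _ => c19))).trans (by norm_num))
    · exact le_max_of_le_left ((Nat.le_of_dvd (by norm_num) (hC.trans (cent_dvd hd fun _ => c31))).trans (by norm_num))
  push Not at h1 h2
  obtain ⟨q, hq, hd, hq2, hq3⟩ := h1
  obtain ⟨r, hr, hrd, hr5⟩ := h2
  have k1 := primes hq (hd.trans (ord_dvd g))
  have k2 := primes hr (hrd.trans (ord_dvd g))
  by_cases h5 : q = 5
  swap
  · exact big q hd (by omega)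
  subst h5
  have h3000 := cent_dvd hd fun _ => c5
  by_cases h23 : r = 2 ∨ r = 3
  swap
  · exact big r hrd (by omega)
  refine le_max_of_le_left (Nat.le_of_dvd (by norm_num) (hC.trans (dvd_120 h3000 fun h25 => ?_)))
  rcases h23 with rfl | rfl
  · have := h25.trans (cent_dvd hrd fun _ => c2)
    norm_num at this
  · obtain ⟨m, hm⟩ := exists_pow_order hrd
    exact not_25 hm (h25.trans (card_dvd_of_le (cent_le_pow g m)))

/-- **Involutions with products in `X`.** -/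
theorem invol_sq {X : Subgroup Th} {Y : Set Th} (h1 : ∀ y ∈ Y, y * y = 1) (h2 : ∀ u ∈ Y, ∀ v ∈ Y, u * v ∈ X) {n : ℕ}
    (hn : Nat.card X ∣ n) (hn0 : 0 < n) : Y.ncard ^ 2 ≤ KB n * n := by
  haveI := finTh
  unfold KB
  rw [← np_true, add_assoc, add_mul, add_mul]
  refine (np_split Y _ fun g => ∀ q : ℕ, q.Prime → q ∣ orderOf g → q = 2 ∨ q = 3).trans (Nat.add_le_add ?_ ?_)
  · refine np_part h1 h2 (R := 5 ^ 3 * 7 ^ 2 * 13 * 19 * 31) hn hn0 {q | q = 2 ∨ q = 3}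
      (by rintro q (rfl | rfl) <;> norm_num) (sub_dvd X) (fun q hq h => ?_) (by rintro q (rfl | rfl) <;> norm_num)
      fun u _ v _ h => h.2
    rcases (hq.dvd_mul).1 h with h | h
    · exact Or.inl ((Nat.prime_dvd_prime_iff_eq hq Nat.prime_two).1 (hq.dvd_of_dvd_pow h))
    · exact Or.inr ((Nat.prime_dvd_prime_iff_eq hq Nat.prime_three).1 (hq.dvd_of_dvd_pow h))
  refine (np_split Y _ fun g => ∀ q : ℕ, q.Prime → q ∣ orderOf g → q = 5).trans (Nat.add_le_add ?_ ?_)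
  · refine np_part h1 h2 (R := 2 ^ 15 * 3 ^ 10 * 7 ^ 2 * 13 * 19 * 31) hn hn0 {q | q = 5}
      (by rintro q rfl; norm_num) (sub_dvd X) (fun q hq h => ?_) (by rintro q rfl; norm_num) fun u _ v _ h => h.2
    exact (Nat.prime_dvd_prime_iff_eq hq Nat.prime_five).1 (hq.dvd_of_dvd_pow (show q ∣ 5 ^ 3 from h))
  · exact (np_cent h1 h2 _ fun u _ v _ h => cent_rest hn hn0 h.1.2 h.2).trans
      (Nat.mul_le_mul_left _ (Nat.le_of_dvd hn0 hn))

theorem sq_of_two {x : Th} (h : orderOf x = 2) : x * x = 1 := by rw [← pow_two, ← h, pow_orderOf_eq_one]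

theorem nOrd_sq {A : Subgroup Th} {n : ℕ} (hn : Nat.card A ∣ n) (hn0 : 0 < n) : nOrd A 2 ^ 2 ≤ KB n * n :=
  invol_sq (X := A) (fun _ hy => sq_of_two hy.2) (fun _ hu _ hv => A.mul_mem hu.1 hv.1) hn hn0

/-- the test for index two -/
def pass2 (n : ℕ) : Bool :=
  Nat.blt (KB n * n) (31255 ^ 2) ||
    Nat.blt (KB (n / 2) * (n / 2) * 92897280 + (n / 2) ^ 2 * 491520) 90745943887872000

theorem kill2 (hT : Thr) {A B : Subgroup Th} (h : IsPair A B) (h2 : B.relIndex A = 2)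
    (hp : pass2 (Nat.card A) = true) : False := by
  haveI := finTh
  have hd : 2 ∣ B.relIndex A := by rw [h2]
  simp only [pass2, Bool.or_eq_true, Nat.blt_eq] at hp
  rcases hp with hp | hp
  · have k1 := Nat.pow_le_pow_left (hT.two h hd) 2
    have k2 := nOrd_sq (A := A) dvd_rfl Nat.card_pos
    omega
  · have k0 := NegS.card_mul_relIndex h.le
    rw [h2] at k0
    rw [← k0, Nat.mul_div_cancel _ (by norm_num)] at hp
    have k1 := hT.out2 h hd
    have k2 : oOrd A B 2 ^ 2 ≤ KB (Nat.card B) * Nat.card B :=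
      invol_sq (X := B) (fun _ hy => sq_of_two hy.2)
        (fun _ hu _ hv => NegS.mul_mem_of_two h2 hu.1.1 hv.1.1 hu.1.2 hv.1.2) dvd_rfl Nat.card_pos
    have k3 : oOrd A B 4 + oOrd A B 8 ≤ Nat.card B := by
      have k4 := NegS.ncard_le_of_two h.le h2 (Y := {x : Th | (x ∈ A ∧ x ∉ B) ∧ orderOf x = 4} ∪
        {x : Th | (x ∈ A ∧ x ∉ B) ∧ orderOf x = 8}) (by rintro x (hx | hx) <;> exact hx.1)
      rw [Set.ncard_union_eq (Set.disjoint_left.2 fun x hx hy => by have := hx.2; have := hy.2; omega)] at k4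
      unfold oOrd
      omega
    have k5 := Nat.pow_le_pow_left k3 2
    rw [add_pow_two] at k5
    have k6 := Nat.mul_le_mul_right 92897280 k2
    omega

/-- the bound for the number of Sylow 3-subgroups -/
def n3 (q : ℕ) : ℕ := if q % 3 = 1 then q else q / 2

theorem le_n3 {n q : ℕ} (h1 : n % 3 = 1) (h2 : n ∣ q) (h0 : 0 < q) : n ≤ n3 q := by
  unfold n3
  split_ifs with h
  · exact Nat.le_of_dvd h0 h2
  · obtain ⟨c, rfl⟩ := h2
    have hc : 2 ≤ c := by
      rcases c with _ | _ | c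
      · simp at h0
      · simp [h1] at h
      · omega
    exact (Nat.le_div_iff_mul_le (by norm_num)).2 (Nat.mul_le_mul_left _ hc)

/-- the inequality for the prime three -/
def ineq3 (a t : ℕ) : Bool :=
  Nat.blt (3 * (a ^ 2 * 12737088 + t ^ 2 * 472392 + t ^ 2 * 174960) + (t + t) ^ 2 * 5832) (6 * 90745943887872000)

/-- the test for the prime three -/
def pass3 (n δ : ℕ) : Bool :=
  ineq3 (n3 (n / Nat.gcd n (3 ^ 10)) * (Nat.gcd n (3 ^ 10) - Nat.gcd n (3 ^ 10) / 3 - δ))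
    (n3 (n / Nat.gcd n (3 ^ 10)) * (Nat.gcd n (3 ^ 10) - Nat.gcd n (3 ^ 10) / 3))

theorem gcd_eq (H : Subgroup Th) : Nat.gcd (Nat.card H) (3 ^ 10) = 3 ^ (Nat.card H).factorization 3 := by
  haveI := finTh
  have h0 : Nat.card H ≠ 0 := Nat.card_pos.ne'
  refine Nat.dvd_antisymm ?_ (Nat.dvd_gcd (Nat.ordProj_dvd _ _) (pow_dvd_pow _ ?_))
  · obtain ⟨j, -, hj⟩ := (Nat.dvd_prime_pow Nat.prime_three).1 (Nat.gcd_dvd_right (Nat.card H) (3 ^ 10))
    have h1 := Nat.gcd_dvd_left (Nat.card H) (3 ^ 10)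
    rw [hj] at h1 ⊢
    exact pow_dvd_pow _ ((Nat.prime_three.pow_dvd_iff_le_factorization h0).1 h1)
  · by_contra hc
    have h1 : 3 ^ 11 ∣ 90745943887872000 :=
      ((pow_dvd_pow 3 (by omega)).trans (Nat.ordProj_dvd (Nat.card H) 3)).trans (sub_dvd H)
    norm_num at h1

theorem kill3 (hT : Thr) {A B H : Subgroup Th} (h : IsPair A B) (hd : 3 ∣ B.relIndex A) {k : ℕ}
    (hk : B.relIndex A ∣ k) (h9 : ¬ 9 ∣ k) (hHA : H ≤ A) (hH : ∀ x ∈ A, ∀ j, x ^ 3 ^ j = 1 → x ∈ H) {δ : ℕ}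
    (hδ : δ = 0 ∨ (δ = 2 ∧ ∃ d ∈ A, d ∉ B ∧ IsConj xC d)) (hp : pass3 (Nat.card H) δ = true) : False := by
  haveI := finTh
  obtain ⟨n, hn1, hn2, hn⟩ := ncard_le_sylow (H := H) Nat.prime_three
  unfold pass3 at hp
  rw [gcd_eq] at hp
  set S := 3 ^ (Nat.card H).factorization 3 with hS
  have hS0 : 0 < S := by positivity
  have hn3 : n ≤ n3 (Nat.card H / S) := le_n3 hn1 (Nat.dvd_div_of_mul_dvd (by rwa [mul_comm]))
    (Nat.div_pos (Nat.le_of_dvd Nat.card_pos (Nat.ordProj_dvd _ _)) hS0)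
  -- the outer part of a Sylow subgroup
  have out : ∀ Q : Subgroup Th, Q ≤ H → Nat.card Q = S → ∀ Y : Set Th, (∀ x ∈ Y, x ∈ Q ∧ x ∉ B) →
      Y.ncard ≤ S - S / 3 := by
    intro Q hQ hc Y hY
    have k1 := card_le_mul_inf Nat.prime_three h.2.2.1 (hQ.trans hHA) hc hk h9
    have k2 := NegS.ncard_add_le (inf_le_left : Q ⊓ B ≤ Q) (Y := Y) fun x hx => ⟨(hY x hx).1, fun e => (hY x hx).2 e.2⟩
    omega
  have all : ∀ X : Set Th, (∀ x ∈ X, (x ∈ A ∧ x ∉ B) ∧ orderOf x ∣ 27) → X.ncard ≤ n3 (Nat.card H / S) * (S - S / 3) := by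
    intro X hX
    refine (hn X _ (fun x hx => ?_) fun Q hQ hc => out Q hQ hc _ fun x hx => ⟨hx.2, (hX x hx.1).1.2⟩).trans
      (Nat.mul_le_mul_right _ hn3)
    have k1 : x ^ 3 ^ 3 = 1 := orderOf_dvd_iff_pow_eq_one.1 (hX x hx).2
    exact ⟨hH x (hX x hx).1.1 3 k1, 3, k1⟩
  have kA : oCls A B xA ≤ n3 (Nat.card H / S) * (S - S / 3 - δ) := by
    have o3 : ∀ {x : Th}, orderOf x = 3 → x ^ 3 ^ 1 = 1 := fun e => by rw [pow_one, ← e, pow_orderOf_eq_one]
    refine (hn _ _ (fun x hx => ?_) fun Q hQ hc => ?_).trans (Nat.mul_le_mul_right _ hn3)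
    · have k1 := o3 ((isConj_order hx.2).trans oA)
      exact ⟨hH x hx.1.1 1 k1, 1, k1⟩
    rcases hδ with rfl | ⟨rfl, d, hdA, hdB, hdC⟩
    · exact out Q hQ hc _ fun x hx => ⟨hx.2, hx.1.1.2⟩
    have k1 := (isConj_order hdC).trans oC
    obtain ⟨s, hs, hsd⟩ := exists_conj_mem Nat.prime_three hQ hc (hH d hdA 1 (o3 k1)) (o3 k1)
    have hC : IsConj xC (s * d * s⁻¹) := hdC.trans (isConj_iff.2 ⟨s, rfl⟩)
    have hB : s * d * s⁻¹ ∉ B := fun e => hdB (by
      have := h.conj_mem (A.inv_mem (hHA hs)) e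
      simpa [mul_assoc] using this)
    generalize s * d * s⁻¹ = e at hsd hC hB
    have hne : e ≠ e⁻¹ := fun e1 => by
      have k2 : e ^ 2 = 1 := by rw [pow_two]; exact mul_eq_one_iff_eq_inv.2 e1
      have k3 := orderOf_dvd_of_pow_eq_one k2
      rw [isConj_order hC, oC] at k3
      norm_num at k3
    have k4 := out Q hQ hc ({x ∈ {x : Th | (x ∈ A ∧ x ∉ B) ∧ IsConj xA x} | x ∈ Q} ∪ {e, e⁻¹}) (by
      rintro x (hx | rfl | rfl)
      · exact ⟨hx.2, hx.1.1.2⟩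
      · exact ⟨hsd, hB⟩
      · exact ⟨Q.inv_mem hsd, fun e1 => hB (by simpa using B.inv_mem e1)⟩)
    rw [Set.ncard_union_eq (Set.disjoint_left.2 (by
      rintro x hx (rfl | rfl)
      · exact not_conj_AC (hx.1.2.trans hC.symm)
      · exact not_conj_AC (hx.1.2.trans (isC_inv hC).symm))), Set.ncard_pair hne] at k4
    omega
  have kB : oCls A B xB ≤ _ := all _ fun x hx => ⟨hx.1, by rw [isConj_order hx.2, oB]; norm_num⟩
  have kC : oCls A B xC ≤ _ := all _ fun x hx => ⟨hx.1, by rw [isConj_order hx.2, oC]; norm_num⟩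
  have k9 : oOrd A B 9 ≤ _ := all _ fun x hx => ⟨hx.1, by rw [hx.2]; norm_num⟩
  have k27 : oOrd A B 27 ≤ _ := all _ fun x hx => ⟨hx.1, by rw [hx.2]⟩
  have k1 := hT.out3 h hd
  simp only [ineq3, Nat.blt_eq] at hp
  have k2 := Nat.pow_le_pow_left kA 2
  have k3 := Nat.pow_le_pow_left kB 2
  have k4 := Nat.pow_le_pow_left kC 2
  have k5 := Nat.pow_le_pow_left (Nat.add_le_add k9 k27) 2
  omega

theorem norm13 (x : Th) (hx : orderOf x = 13) : Nat.card (normalizer ((zpowers x : Subgroup Th) : Set Th)) ∣ 468 := by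
  haveI := finTh
  have := card_norm_dvd (by norm_num) hx
  rwa [c13 hx] at this

theorem norm31 (x : Th) (hx : orderOf x = 31) : Nat.card (normalizer ((zpowers x : Subgroup Th) : Set Th)) ∣ 465 := by
  rw [(Cfsg.Agent.H444.ThLoc.cn31 (R := zpowers x) (by rw [Nat.card_zpowers, hx])).2]

/-! ### The prime five -/

theorem exists_P {y : Th} (hy : orderOf y = 5) : ∃ P : Subgroup Th, Nat.card P = 125 ∧
    (∀ Q : Subgroup Th, IsPGroup 5 Q → Q ≤ centralizer ({y} : Set Th) → Q ≤ P) ∧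
    centralizer ({y} : Set Th) ≤ normalizer (P : Set Th) := by
  obtain ⟨hfin, a, b, z, s, D⟩ := Cfsg.Agent.H49.ThFive.exists_dat
  obtain ⟨P, hP, hc⟩ := exists_sub (H := centralizer ({y} : Set Th)) (k := 3) Nat.prime_five (by rw [c5 hy]; norm_num)
  have hPc : ∀ u ∈ P, u * y = y * u := fun u hu => mem_centralizer_singleton_iff.1 (hP hu)
  refine ⟨P, hc, fun Q hQ hQc => Cfsg.Agent.H513.L5.ThA.le_of_cent D hy hc hPc hQ
    fun u hu => mem_centralizer_singleton_iff.1 (hQc hu), fun g hg => mem_normalizer_fintype fun u hu => ?_⟩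
  exact Cfsg.Agent.H513.L5.ThA.norm_of_cent D hy hc hPc (mem_centralizer_singleton_iff.1 hg) hu

/-- no element of order 15 in a subgroup with Sylow 5-subgroups of order 25 -/
theorem no15 {H : Subgroup Th} (h25 : 25 ∣ Nat.card H) (h125 : ¬ 125 ∣ Nat.card H) {g : Th} (hg : g ∈ H)
    (ho : orderOf g = 15) : False := by
  haveI := finTh
  have hy : orderOf (g ^ 3) = 5 := by rw [orderOf_pow' _ (by norm_num), ho]; rfl
  have hx : orderOf (g ^ 5) = 3 := by rw [orderOf_pow' _ (by norm_num), ho]; rfl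
  obtain ⟨P, hP, hle, hn⟩ := exists_P hy
  obtain ⟨F, hF, hFc⟩ := exists_sub (k := 2) Nat.prime_five h25
  have he : (Nat.card H).factorization 5 = 2 := by
    have k1 := (Nat.prime_five.pow_dvd_iff_le_factorization (k := 2) (n := Nat.card H) Nat.card_pos.ne').1 h25
    have k2 := mt (Nat.prime_five.pow_dvd_iff_le_factorization (k := 3) (n := Nat.card H) Nat.card_pos.ne').2 h125
    omega
  obtain ⟨s, hs, hsy⟩ := exists_conj_mem Nat.prime_five hF (by rw [hFc, he]) (H.pow_mem hg 3) (k := 1)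
    (by rw [pow_one, ← hy, pow_orderOf_eq_one])
  -- the Sylow subgroup through `g ^ 3`
  have hF' : F.map (MulAut.conj s⁻¹).toMonoidHom ≤ H ⊓ P := by
    refine le_inf ?_ (hle _ (IsPGroup.of_card (n := 2) (by rw [NegS.card_map_conj, hFc])) ?_)
    · rintro _ ⟨u, hu, rfl⟩
      exact H.mul_mem (H.mul_mem (H.inv_mem hs) (hF hu)) (H.inv_mem (H.inv_mem hs))
    · rintro _ ⟨u, hu, rfl⟩
      have k1 := comm_of_sq Nat.prime_five hFc hu hsy
      rw [mem_centralizer_singleton_iff]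
      change s⁻¹ * u * s⁻¹⁻¹ * g ^ 3 = g ^ 3 * (s⁻¹ * u * s⁻¹⁻¹)
      calc s⁻¹ * u * s⁻¹⁻¹ * g ^ 3 = s⁻¹ * (u * (s * g ^ 3 * s⁻¹)) * s := by group
        _ = _ := by rw [k1]; group
  have hc : Nat.card (H ⊓ P : Subgroup Th) = 25 := by
    have k1 := card_dvd_of_le hF'
    rw [NegS.card_map_conj, hFc] at k1
    have k2 : Nat.card (H ⊓ P : Subgroup Th) ∣ 5 ^ 3 := by
      have := card_dvd_of_le (inf_le_right : H ⊓ P ≤ P)
      rwa [hP] at this
    have k3 := card_dvd_of_le (inf_le_left : H ⊓ P ≤ H)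
    obtain ⟨j, hj, hj'⟩ := (Nat.dvd_prime_pow Nat.prime_five).1 k2
    rw [hj'] at k1 k3 ⊢
    have := (Nat.pow_dvd_pow_iff_le_right (by norm_num)).1 k1
    rcases (show j = 2 ∨ j = 3 by omega) with rfl | rfl
    · rfl
    · exact absurd k3 h125
  have hxy : g ^ 5 * g ^ 3 = g ^ 3 * g ^ 5 := by rw [← pow_add, ← pow_add]
  have hxn : g ^ 5 ∈ normalizer ((H ⊓ P : Subgroup Th) : Set Th) := mem_normalizer_fintype fun u hu =>
    ⟨H.mul_mem (H.mul_mem (H.pow_mem hg 5) hu.1) (H.inv_mem (H.pow_mem hg 5)),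
      NegS.conj_mem_of_le hn (mem_centralizer_singleton_iff.2 hxy) hu.2⟩
  have hmod := NegS.card_cent_modEq (q := 3) (k := 1) Nat.prime_three
    (by rw [pow_one, ← hx, pow_orderOf_eq_one]) hxn
  have hyin : g ^ 3 ∈ H ⊓ P ⊓ centralizer ({g ^ 5} : Set Th) := by
    refine ⟨⟨H.pow_mem hg 3, hle (zpowers (g ^ 3)) (IsPGroup.of_card (n := 1) (by rw [Nat.card_zpowers, hy]; rfl))
      (zpowers_le.2 (mem_centralizer_singleton_iff.2 rfl)) (mem_zpowers _)⟩, mem_centralizer_singleton_iff.2 hxy.symm⟩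
  have k1 := Subgroup.orderOf_dvd_natCard _ hyin
  have k2 := card_dvd_of_le (inf_le_left : H ⊓ P ⊓ centralizer ({g ^ 5} : Set Th) ≤ H ⊓ P)
  have k3 := card_dvd_of_le (inf_le_right : H ⊓ P ⊓ centralizer ({g ^ 5} : Set Th) ≤ _)
  rw [hc] at hmod k2
  rw [hy] at k1
  obtain ⟨j, hj, hj'⟩ := (Nat.dvd_prime_pow Nat.prime_five).1 (show _ ∣ 5 ^ 2 from k2)
  rw [hj'] at hmod k1 k3
  interval_cases j
  · norm_num at k1
  · exact absurd hmod (by decide)
  · exact not_25 hx k3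

/-- an outer element of class 3C -/
theorem exists_outC {A B L : Subgroup Th} (h : IsPair A B) (hd : 3 ∣ B.relIndex A) (hLB : L ≤ B)
    (hn : A ≤ normalizer (L : Set Th)) (h125 : 125 ∣ Nat.card L) : ∃ d ∈ A, d ∉ B ∧ IsConj xC d := by
  haveI := finTh
  obtain ⟨P, hP, hPc⟩ := exists_sub (k := 3) Nat.prime_five h125
  obtain ⟨d, hdA, hdn, hdB, k, hk⟩ := exists_out (H := normalizer (P : Set Th)) h.le h.2.2.1 Nat.prime_three hd
    fun a ha => by
      obtain ⟨s, hs, h1⟩ := NegS.frattini Nat.prime_five hP hn hPc (not_pow_of (by norm_num)) ha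
      exact ⟨s, hLB hs, h1⟩
  have hmod := NegS.card_cent_modEq Nat.prime_three hk hdn
  have k2 := card_dvd_of_le (inf_le_left : P ⊓ centralizer ({d} : Set Th) ≤ P)
  have k3 := card_dvd_of_le (inf_le_right : P ⊓ centralizer ({d} : Set Th) ≤ _)
  rw [hPc] at hmod k2
  obtain ⟨j, -, hj'⟩ := (Nat.dvd_prime_pow Nat.prime_five).1 k2
  rw [hj'] at hmod k3
  have h5 : 5 ∣ Nat.card (centralizer ({d} : Set Th)) := by
    rcases j with _ | j
    · exact absurd hmod (by decide)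
    · exact (dvd_pow_self 5 (by omega)).trans k3
  refine ⟨d, hdA, hdB, five_of ?_ h5⟩
  rcases ord_three hk (fun e => hdB (e ▸ B.one_mem)) with e | e
  · exact e
  · have := h5.trans (c9 e)
    norm_num at this

end Cfsg.Agent.SP.NTh.NL
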