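import Cfsg.Agent.SP.NTh.NL.Cnt
import Cfsg.Agent.H653.ThE.Fields
import Cfsg.Agent.H47.Kill
import Cfsg.Agent.H206.SubO73
import Cfsg.Agent.H942.Sp6
import Cfsg.Agent.Th.E8Hom
import Cfsg.Agent.H542.G2X.Spec
import Cfsg.Agent.H379.J2Spec
import Cfsg.Agent.H403.TitsSixteen

/-! # S5755, row `Th`, box `NL`: simple groups that are not subgroups of `Th` (helper77) -/

set_option autoImplicit false
set_option maxRecDepth 100000
set_option linter.style.haveILetI false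

namespace Cfsg.Agent.SP.NTh.NL

open Subgroup Cfsg.Agent.SP Cfsg.Agent.OrdDiv

theorem four_map {G H : Type*} [Group G] [Group H] (φ : G →* H) (hφ : Function.Injective φ) {x : G} (h : Four x) :
    Four (φ x) := by
  obtain ⟨u, v, hu, hv, huv, h1, h2, h3⟩ := h
  refine ⟨φ u, φ v, by rw [orderOf_injective φ hφ, hu], by rw [orderOf_injective φ hφ, hv], fun e => huv (hφ e), ?_, ?_, ?_⟩
  · rw [← map_mul, h1, map_mul]
  · rw [← map_mul, h2, map_mul]
  · rw [← map_mul, h3, map_mul]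

theorem no_alt {n : ℕ} (φ : alternatingGroup (Fin n) →* Th) (hφ : Function.Injective φ) (y u v : Equiv.Perm (Fin n))
    (sy : y ∈ alternatingGroup (Fin n)) (su : u ∈ alternatingGroup (Fin n)) (sv : v ∈ alternatingGroup (Fin n))
    (h : y ^ 5 = 1 ∧ y ≠ 1 ∧ u ^ 2 = 1 ∧ u ≠ 1 ∧ v ^ 2 = 1 ∧ v ≠ 1 ∧ u ≠ v ∧ u * v = v * u ∧ u * y = y * u ∧
      v * y = y * v) : False := by
  haveI := Fact.mk Nat.prime_five
  haveI := Fact.mk Nat.prime_two
  obtain ⟨h1, h2, h3, h4, h5, h6, h7, h8, h9, h10⟩ := h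
  refine not_four_five (y := φ ⟨y, sy⟩) ?_ (four_map φ hφ ⟨⟨u, su⟩, ⟨v, sv⟩, ?_, ?_, fun e => h7 (congrArg Subtype.val e),
    Subtype.ext h8, Subtype.ext h9, Subtype.ext h10⟩)
  · rw [orderOf_injective φ hφ, Subgroup.orderOf_mk, orderOf_eq_prime h1 h2]
  · rw [Subgroup.orderOf_mk, orderOf_eq_prime h3 h4]
  · rw [Subgroup.orderOf_mk, orderOf_eq_prime h5 h6]

theorem no_alt9 (φ : alternatingGroup (Fin 9) →* Th) (hφ : Function.Injective φ) : False :=
  no_alt φ hφ (Equiv.swap 0 1 * Equiv.swap 1 2 * Equiv.swap 2 3 * Equiv.swap 3 4) (Equiv.swap 5 6 * Equiv.swap 7 8)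
    (Equiv.swap 5 7 * Equiv.swap 6 8) (by simp) (by simp) (by simp) (by decide +kernel)

theorem no_alt10 (φ : alternatingGroup (Fin 10) →* Th) (hφ : Function.Injective φ) : False :=
  no_alt φ hφ (Equiv.swap 0 1 * Equiv.swap 1 2 * Equiv.swap 2 3 * Equiv.swap 3 4) (Equiv.swap 5 6 * Equiv.swap 7 8)
    (Equiv.swap 5 7 * Equiv.swap 6 8) (by simp) (by simp) (by simp) (by decide +kernel)

/-! ### `L₄(3)` -/

/-- the special linear group -/
abbrev S4 := Matrix.SpecialLinearGroup (Fin 4) (ZMod 3)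

/-- a scalar of order eight of the field with nine elements -/
def mc : S4 := ⟨!![1, 2, 0, 0; 1, 1, 0, 0; 0, 0, 1, 2; 0, 0, 1, 1], by decide +kernel⟩
/-- order five -/
def my : S4 := ⟨!![0, 0, 2, 0; 0, 0, 0, 2; 1, 0, 1, 2; 0, 1, 1, 1], by decide +kernel⟩
/-- unipotent -/
def mu : S4 := ⟨!![1, 0, 1, 0; 0, 1, 0, 1; 0, 0, 1, 0; 0, 0, 0, 1], by decide +kernel⟩
/-- unipotent -/
def mv : S4 := ⟨!![1, 0, 0, 2; 0, 1, 1, 0; 0, 0, 1, 0; 0, 0, 0, 1], by decide +kernel⟩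
/-- a transvection -/
def mw : S4 := ⟨!![1, 1, 0, 0; 0, 1, 0, 0; 0, 0, 1, 0; 0, 0, 0, 1], by decide +kernel⟩

theorem rel4 : (mc ^ 4).1 = Matrix.scalar (Fin 4) (2 : ZMod 3) ∧ mw * mc ^ 2 ≠ mc ^ 2 * mw ∧ my ^ 5 = 1 ∧ mu * my ≠ my * mu ∧
    mu ^ 3 = 1 ∧ mv ^ 3 = 1 ∧ mu * mv = mv * mu ∧ my * mc = mc * my ∧ mu * mc = mc * mu ∧ mv * mc = mc * mv ∧
    ∀ i : Fin 3, my * (mu ^ (i : ℕ) * mv ^ 2) ≠ mu ^ (i : ℕ) * mv ^ 2 * my := by decide +kernel

theorem no_psl (φ : Matrix.ProjectiveSpecialLinearGroup (Fin 4) (ZMod 3) →* Th) (hφ : Function.Injective φ) : False := by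
  classical
  haveI := finTh
  haveI := Fact.mk Nat.prime_five
  haveI := Fact.mk Nat.prime_three
  haveI := Fact.mk Nat.prime_two
  obtain ⟨h1, h2, h3, h4, h5, h6, h7, h8, h9, h10, h11⟩ := rel4
  let ψ : S4 →* Th := φ.comp (QuotientGroup.mk' (center S4))
  have k1 : ∀ x : S4, ψ x = 1 ↔ x ∈ center S4 := fun x =>
    (map_eq_one_iff φ hφ).trans (QuotientGroup.eq_one_iff x)
  have k2 : ∀ x w : S4, w * x ≠ x * w → ψ x ≠ 1 := fun x w h e => h (mem_center_iff.1 ((k1 x).1 e) w)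
  have k3 : ∀ x : S4, x * mc = mc * x → ψ x ∈ centralizer ({ψ mc} : Set Th) := fun x h =>
    mem_centralizer_singleton_iff.2 (by rw [← map_mul, h, map_mul])
  have o4 : orderOf (ψ mc) = 2 ^ (1 + 1) := orderOf_eq_prime_pow (by rw [← map_pow]; exact k2 _ mw h2) (by
    rw [← map_pow, k1]
    exact Matrix.SpecialLinearGroup.mem_center_iff.2 ⟨2, by rw [Fintype.card_fin]; rfl, h1.symm⟩)
  have o5 : orderOf (ψ my) = 5 := orderOf_eq_prime (by rw [← map_pow, h3, map_one]) (k2 _ mu h4)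
  have u3 : ψ mu ^ 3 = 1 := by rw [← map_pow, h5, map_one]
  have v3 : ψ mv ^ 3 = 1 := by rw [← map_pow, h6, map_one]
  have u1 : ψ mu ≠ 1 := k2 _ my h4.symm
  have d5 : 5 ∣ Nat.card (centralizer ({ψ mc} : Set Th)) := o5 ▸ Subgroup.orderOf_dvd_natCard _ (k3 _ h8)
  have d9 : 3 ^ 2 ∣ Nat.card (centralizer ({ψ mc} : Set Th)) := by
    refine (H47.Kill.sq_dvd_card (x := ψ mu) (y := ψ mv) (by rw [← map_mul, h7, map_mul]) u3 v3 u1 fun h => ?_).trans
      (card_dvd_of_le ((closure_le _).2 ?_))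
    · obtain ⟨i, hi, e⟩ := Finset.mem_image.1 (mem_zpowers_iff_mem_range_orderOf.1 h)
      rw [orderOf_eq_prime u3 u1, Finset.mem_range] at hi
      refine k2 _ my (h11 ⟨i, hi⟩) ?_
      rw [map_mul, map_pow, map_pow, e, ← pow_succ', v3]
    · rintro _ (rfl | rfl)
      · exact k3 _ h9
      · exact k3 _ h10
  rcases H653.ThE.conj4 (x := ψ mc) o4 with h | h
  · rw [H653.ThE.cent4A h] at d5
    norm_num at d5
  · exact H653.ThE.c4B h d9

theorem no_l43 {S : Type} [Group S] (φ : S →* Th) (hφ : Function.Injective φ) (h : Real (.psl 4 3) S) : False := by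
  haveI := Fact.mk Nat.prime_three
  obtain ⟨F, _, _, hF, ⟨e⟩⟩ := h
  let e' : Matrix.ProjectiveSpecialLinearGroup (Fin 4) (ZMod 3) ≃* S :=
    (LieClassical.FieldTransfer.pslCongr (ZMod.ringEquivOfPrime F Nat.prime_three hF)).trans e.symm
  exact no_psl (φ.comp e'.toMonoidHom) (hφ.comp e'.injective)

/-- the names excluded -/
def exN : Grp → Bool
  | .alt n => Nat.beq n 9 || Nat.beq n 10
  | .psl n q => Nat.beq n 4 && Nat.beq q 3
  | .psp n q => Nat.beq n 3 && Nat.beq q 3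
  | .oodd n q => Nat.beq n 3 && Nat.beq q 3
  | .tits => true
  | _ => false

/-- the names with an element of order 15 -/
def ex15 : Grp → Bool
  | .oplus n q => Nat.beq n 4 && Nat.beq q 2
  | .g2 q => Nat.beq q 4
  | .j2 => true
  | _ => false

theorem false_of_exN {L : Subgroup Th} {g : Grp} (hg : exN g = true) (h : Real g L) : False := by
  cases g with
  | alt n =>
    obtain ⟨e⟩ := h
    simp only [exN, Bool.or_eq_true, Nat.beq_eq] at hg
    rcases hg with rfl | rfl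
    · exact no_alt9 (L.subtype.comp e.symm.toMonoidHom) (L.subtype_injective.comp e.symm.injective)
    · exact no_alt10 (L.subtype.comp e.symm.toMonoidHom) (L.subtype_injective.comp e.symm.injective)
  | psl n q =>
    simp only [exN, Bool.and_eq_true, Nat.beq_eq] at hg
    obtain ⟨rfl, rfl⟩ := hg
    exact no_l43 L.subtype L.subtype_injective h
  | psp n q =>
    simp only [exN, Bool.and_eq_true, Nat.beq_eq] at hg
    obtain ⟨rfl, rfl⟩ := hg
    haveI := Fact.mk Nat.prime_three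
    haveI : IsSimpleGroup Th := Cfsg.Agent.Th.Final.isSimple
    obtain ⟨F, _, _, hF, ⟨e⟩⟩ := h
    obtain ⟨φ, hφ⟩ := Cfsg.Agent.Th.E8Hom.embeds (G := Th) ⟨MulEquiv.refl _⟩
    exact (H942.Sp6.psp6 (L.map φ)).false (((L.equivMapOfInjective φ hφ).symm.trans e).trans
      (LieClassical.FieldTransfer.pspCongr 3 (ZMod.ringEquivOfPrime F Nat.prime_three hF).symm))
  | oodd n q =>
    simp only [exN, Bool.and_eq_true, Nat.beq_eq] at hg
    obtain ⟨rfl, rfl⟩ := hg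
    obtain ⟨M, hM⟩ := H206.SubO73.X1 L h
    exact no_l43 (L.subtype.comp M.subtype) (L.subtype_injective.comp M.subtype_injective) hM
  | tits =>
    obtain ⟨x, hx⟩ := H403.Tits.exists_sixteen h
    exact H653.ThE.no16 (x : Th) (by rw [Subgroup.orderOf_coe, hx])
  | _ => simp [exN] at hg

theorem exists_15 {S : Type} [Group S] {g : Grp} (hg : ex15 g = true) (h : Real g S) : ∃ x : S, orderOf x = 15 := by
  have tr : ∀ {T : Type} [Group T] (e : S ≃* T), (∃ x : T, orderOf x = 15) → ∃ x : S, orderOf x = 15 := by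
    rintro T _ e ⟨x, hx⟩
    exact ⟨e.symm x, by rw [MulEquiv.orderOf_eq, hx]⟩
  cases g with
  | oplus n q =>
    simp only [ex15, Bool.and_eq_true, Nat.beq_eq] at hg
    obtain ⟨rfl, rfl⟩ := hg
    obtain ⟨F, _, _, hF, ⟨e⟩⟩ := h
    have hF' : Nat.card F = 2 := by rw [Nat.card_eq_fintype_card, hF]
    have h1 : H377.Elt F 4 1 15 := H377.elt_tor_plus (k := 4) (by norm_num) (by rw [hF']; decide)
    exact tr e ((h1.two (by norm_num) (by decide)).plus (by norm_num))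
  | g2 q =>
    simp only [ex15, Nat.beq_eq] at hg
    subst hg
    obtain ⟨F, _, _, hF, ⟨e⟩⟩ := h
    refine tr e ((H542.G2X.om_iff (p := 2) (f := 2) ⟨Nat.prime_two, by norm_num, hF, by rw [hF]; norm_num⟩).2 ?_)
    rw [hF]
    exact Or.inr (Or.inr (Or.inl (by norm_num)))
  | j2 =>
    obtain ⟨e⟩ := h
    exact tr e (H379.J2Spec.exists_order H379.J2Spec.o15)
  | _ => simp [ex15] at hg

theorem false_of_ex15 {L : Subgroup Th} {g : Grp} (hg : ex15 g = true) (h : Real g L) (h25 : 25 ∣ Nat.card L)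
    (h125 : ¬ 125 ∣ Nat.card L) : False := by
  obtain ⟨x, hx⟩ := exists_15 hg h
  exact no15 h25 h125 x.2 (by rw [Subgroup.orderOf_coe, hx])

end Cfsg.Agent.SP.NTh.NL
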