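import Cfsg.Agent.SP.NegS.Gen2
import Cfsg.Agent.SP.Mon.NL.Red

/-! # S5755, row `Th`, boxes `Red` and `NL`: general counting lemmas (helper77) -/

set_option autoImplicit false
set_option linter.style.haveILetI false

namespace Cfsg.Agent.SP.NTh.NL

open Subgroup Cfsg.Agent.SP
open Cfsg.Agent.SP.Mon.NL (np fst np_le_sum np_le_mul sum_cent_le card_inf_cent div_gcd_dvd)

variable {G : Type*} [Group G]

/-- involutions whose products lie in `X` -/
theorem fst_le [Finite G] {X : Subgroup G} {Y : Set G} (h1 : ∀ y ∈ Y, y * y = 1)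
    (h2 : ∀ u ∈ Y, ∀ v ∈ Y, u * v ∈ X) (g : G) :
    (fst Y g).ncard ≤ Nat.card (X ⊓ centralizer ({g} : Set G) : Subgroup G) := by
  rcases (fst Y g).eq_empty_or_nonempty with h0 | ⟨u₀, hu₀⟩
  · rw [h0]; simp
  have key : ∀ u ∈ fst Y g, u * g * u = g⁻¹ := by
    intro u hu
    have k1 := h1 u hu.1
    have k2 := h1 _ hu.2
    have k3 : u⁻¹ = u := inv_eq_of_mul_eq_one_left k1
    rw [k3] at k2
    refine eq_inv_of_mul_eq_one_left ?_
    rw [← k2]; group
  rw [← SetLike.coe_sort_coe, Nat.card_coe_set_eq]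
  refine Set.ncard_le_ncard_of_injOn (fun u => u * u₀) ?_ ?_ (Set.toFinite _)
  · intro u hu
    refine ⟨h2 u hu.1 u₀ hu₀.1, mem_centralizer_singleton_iff.2 ?_⟩
    have k1 := key u hu
    have k2 := key u₀ hu₀
    have k3 := h1 u hu.1
    have k4 := h1 u₀ hu₀.1
    calc u * u₀ * g = u * (u₀ * g * u₀) * u₀ * (u₀ * u₀)⁻¹ * (u₀ * u₀) * (u₀ * u₀)⁻¹ := by group
      _ = u * (u * g * u) * u₀ := by rw [k4, k2, k1]; group
      _ = (u * u) * g * (u * u₀) := by group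
      _ = g * (u * u₀) := by rw [k3, one_mul]
  · intro u _ v _ e
    exact mul_right_cancel e

theorem np_pi [Finite G] {X : Subgroup G} {Y : Set G} (h1 : ∀ y ∈ Y, y * y = 1)
    (h2 : ∀ u ∈ Y, ∀ v ∈ Y, u * v ∈ X)
    (π : Set ℕ) (hπ : ∀ q ∈ π, q.Prime) (m : ℕ) (hm : m ∣ Nat.card X)
    (hmπ : ∀ q : ℕ, q.Prime → q ∣ m → q ∈ π) (hm' : ∀ q ∈ π, ¬ q ∣ Nat.card X / m) {Q : G → Prop}
    (hQ : ∀ u ∈ Y, ∀ v ∈ Y, Q (u * v) → ∀ q : ℕ, q.Prime → q ∣ orderOf (u * v) → q ∈ π) :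
    np Y Q ≤ m * Nat.card X := by
  classical
  haveI := Fintype.ofFinite X
  let Z : Finset X := Finset.univ.filter fun g => ∀ q : ℕ, q.Prime → q ∣ orderOf g → q ∈ π
  have k1 := np_le_sum (Y := Y) (Q := Q) (Z.map ⟨Subtype.val, Subtype.val_injective⟩)
    (fun g => Nat.card (X ⊓ centralizer ({g} : Set G) : Subgroup G)) (fun u hu v hv h => by
      refine Finset.mem_map.2 ⟨⟨u * v, h2 u hu v hv⟩, ?_, rfl⟩
      refine Finset.mem_filter.2 ⟨Finset.mem_univ _, fun q hq hd => hQ u hu v hv h q hq ?_⟩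
      rwa [orderOf_mk] at hd) (fun u _ v _ _ => fst_le h1 h2 _)
  rw [Finset.sum_map] at k1
  refine k1.trans (le_trans (le_of_eq (Finset.sum_congr rfl fun x _ => card_inf_cent X x)) ?_)
  refine (sum_cent_le Z (fun C => ∀ q : ℕ, q.Prime → (∃ g : X, ConjClasses.mk g = C ∧ q ∣ orderOf g) → q ∈ π)
    fun g hg q hq ⟨g', e, hd⟩ => (Finset.mem_filter.1 hg).2 q hq ?_).trans
    (Nat.mul_le_mul_right _ (Cfsg.Agent.S4106.result π hπ m hm hmπ hm'))
  obtain ⟨c, hc⟩ := isConj_iff.1 (ConjClasses.mk_eq_mk_iff_isConj.1 e)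
  rw [← hc, ← MulAut.conj_apply, MulEquiv.orderOf_eq]
  exact hd

theorem np_cent [Finite G] {X : Subgroup G} {Y : Set G} (h1 : ∀ y ∈ Y, y * y = 1)
    (h2 : ∀ u ∈ Y, ∀ v ∈ Y, u * v ∈ X) {Q : G → Prop} (c : ℕ)
    (hQ : ∀ u ∈ Y, ∀ v ∈ Y, Q (u * v) → Nat.card (X ⊓ centralizer ({u * v} : Set G) : Subgroup G) ≤ c) :
    np Y Q ≤ c * Nat.card X := by
  rw [← SetLike.coe_sort_coe, Nat.card_coe_set_eq]
  exact np_le_mul (X : Set G) c (fun u hu v hv _ => h2 u hu v hv)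
    fun u hu v hv h => (fst_le h1 h2 _).trans (hQ u hu v hv h)

theorem np_part [Finite G] {X : Subgroup G} {Y : Set G} (h1 : ∀ y ∈ Y, y * y = 1)
    (h2 : ∀ u ∈ Y, ∀ v ∈ Y, u * v ∈ X) {n P R : ℕ} (hn : Nat.card X ∣ n)
    (hn0 : 0 < n) (π : Set ℕ) (hπ : ∀ q ∈ π, q.Prime) (hPR : Nat.card X ∣ P * R)
    (hP : ∀ q : ℕ, q.Prime → q ∣ P → q ∈ π) (hR : ∀ q ∈ π, ¬ q ∣ R) {Q : G → Prop}
    (hQ : ∀ u ∈ Y, ∀ v ∈ Y, Q (u * v) → ∀ q : ℕ, q.Prime → q ∣ orderOf (u * v) → q ∈ π) :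
    np Y Q ≤ Nat.gcd n P * n := by
  refine (np_pi h1 h2 π hπ (Nat.gcd (Nat.card X) P) (Nat.gcd_dvd_left _ _)
    (fun q hq hd => hP q hq (hd.trans (Nat.gcd_dvd_right _ _)))
    (fun q hq hd => hR q hq (hd.trans (div_gcd_dvd Nat.card_pos hPR))) hQ).trans ?_
  exact Nat.mul_le_mul (Nat.le_of_dvd (Nat.gcd_pos_of_pos_left _ hn0) (Nat.gcd_dvd_gcd_of_dvd_left _ hn))
    (Nat.le_of_dvd hn0 hn)

/-- counting `p`-elements through the Sylow subgroups -/
theorem ncard_le_sylow [Finite G] {H : Subgroup G} {p : ℕ} (hp : p.Prime) :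
    ∃ n, n % p = 1 ∧ n * p ^ (Nat.card H).factorization p ∣ Nat.card H ∧
      ∀ (X : Set G) (c : ℕ), (∀ x ∈ X, x ∈ H ∧ ∃ k, x ^ p ^ k = 1) →
        (∀ Q : Subgroup G, Q ≤ H → Nat.card Q = p ^ (Nat.card H).factorization p → {x ∈ X | x ∈ Q}.ncard ≤ c) →
        X.ncard ≤ n * c := by
  classical
  haveI := Fact.mk hp
  haveI := Fintype.ofFinite (Sylow p H)
  refine ⟨Nat.card (Sylow p H), ?_, ?_, fun X c hX hc => ?_⟩
  · have := card_sylow_modEq_one p H
    rwa [Nat.ModEq, Nat.mod_eq_of_lt hp.one_lt] at this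
  · obtain ⟨P⟩ : Nonempty (Sylow p H) := inferInstance
    rw [← P.card_eq_multiplicity, ← (P : Subgroup H).index_mul_card]
    exact Nat.mul_dvd_mul_right P.card_dvd_index _
  · have hsub : X ⊆ ⋃ P : Sylow p H, {x ∈ X | x ∈ (P : Subgroup H).map H.subtype} := by
      intro x hx
      obtain ⟨hxH, k, hk⟩ := hX x hx
      have hz : IsPGroup p (zpowers (⟨x, hxH⟩ : H)) := by
        obtain ⟨j, -, hj⟩ := (Nat.dvd_prime_pow hp).1 (orderOf_dvd_of_pow_eq_one hk)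
        exact IsPGroup.of_card (n := j) (by rw [Nat.card_zpowers, Subgroup.orderOf_mk, hj])
      obtain ⟨P, hP⟩ := hz.exists_le_sylow
      exact Set.mem_iUnion.2 ⟨P, hx, ⟨x, hxH⟩, hP (mem_zpowers _), rfl⟩
    refine (Set.ncard_le_ncard hsub (Set.toFinite _)).trans ((Set.ncard_iUnion_le_of_fintype _).trans ?_)
    refine (Finset.sum_le_card_nsmul _ _ c fun P _ => hc _ (map_subtype_le _) ?_).trans ?_
    · rw [card_map_of_injective (subtype_injective _), P.card_eq_multiplicity]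
    · rw [smul_eq_mul, Finset.card_univ, Nat.card_eq_fintype_card]

/-- a `p`-subgroup meets a normal subgroup whose index is not divisible by `p ^ 2` -/
theorem card_le_mul_inf [Finite G] {A B Q : Subgroup G} {p e k : ℕ} (hp : p.Prime) (hn : (B.subgroupOf A).Normal)
    (hQ : Q ≤ A) (hc : Nat.card Q = p ^ e) (hk : B.relIndex A ∣ k) (h2 : ¬ p ^ 2 ∣ k) :
    Nat.card Q ≤ p * Nat.card (Q ⊓ B : Subgroup G) := by
  have h1 := NegS.card_inf_mul_relIndex Q B
  have h3 : B.relIndex Q ∣ B.relIndex A := by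
    have h4 := relIndex_dvd_index_of_normal (B.subgroupOf A) (Q.subgroupOf A)
    rwa [relIndex_subgroupOf hQ] at h4
  have h5 : B.relIndex Q ∣ p ^ e := hc ▸ Dvd.intro_left _ h1
  obtain ⟨j, -, hj⟩ := (Nat.dvd_prime_pow hp).1 h5
  have h6 : j ≤ 1 := by
    by_contra h7
    exact h2 (((pow_dvd_pow p (by omega)).trans (hj ▸ h3)).trans hk)
  rw [← h1, hj, mul_comm]
  refine Nat.mul_le_mul_right _ ?_
  calc p ^ j ≤ p ^ 1 := Nat.pow_le_pow_right hp.pos h6
    _ = p := pow_one p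

/-- an `r`-element outside `B` in a supplement -/
theorem exists_out [Finite G] {A B H : Subgroup G} (hBA : B ≤ A) (hn : (B.subgroupOf A).Normal) {r : ℕ} (hr : r.Prime)
    (hd : r ∣ B.relIndex A) (h : ∀ a ∈ A, ∃ s ∈ B, s * a ∈ H) :
    ∃ x ∈ A, x ∈ H ∧ x ∉ B ∧ ∃ k, x ^ r ^ k = 1 := by
  haveI := Fact.mk hr
  have hAB : A ≤ normalizer (B : Set G) :=
    le_normalizer_iff.2 fun a ha b hb => (normal_subgroupOf_iff' hBA).1 hn a ha b hb
  have h1 := NegS.card_inf_eq hBA hAB h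
  obtain ⟨P, hP, hc, hk⟩ := NegS.exists_sylow_sub (A ⊓ H) hr
  by_contra hcon
  push Not at hcon
  have hPB : P ≤ B ⊓ H := fun x hx => ⟨by
    by_contra hb
    refine hcon x (hP hx).1 (hP hx).2 hb ((Nat.card (A ⊓ H : Subgroup G)).factorization r) ?_
    rw [← hc]
    exact congrArg Subtype.val (pow_card_eq_one' (x := (⟨x, hx⟩ : P))), (hP hx).2⟩
  apply hk
  rw [← h1, pow_succ]
  exact Nat.mul_dvd_mul (by rw [h1, ← hc]; exact card_dvd_of_le hPB) hd

/-- a subgroup of index two over a normal subgroup of index six -/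
theorem exists_half [Finite G] {A L : Subgroup G} (hn : A ≤ normalizer (L : Set G))
    (h6 : L.relIndex A = 6) : ∃ H : Subgroup G, H ≤ A ∧ H.relIndex A = 2 := by
  haveI : (L.subgroupOf A).Normal := normal_subgroupOf_of_le_normalizer hn
  haveI : Fact (Nat.Prime 3) := ⟨Nat.prime_three⟩
  have hc : Nat.card (A ⧸ L.subgroupOf A) = 6 := h6
  obtain ⟨g, hg⟩ := exists_prime_orderOf_dvd_card' (G := A ⧸ L.subgroupOf A) 3 (by rw [hc]; norm_num)
  have h1 : (zpowers g).index = 2 := by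
    have := (zpowers g).card_mul_index
    rw [Nat.card_zpowers, hg, hc] at this
    omega
  refine ⟨((zpowers g).comap (QuotientGroup.mk' _)).map A.subtype, map_subtype_le _, ?_⟩
  rw [relIndex, subgroupOf, comap_map_eq_self_of_injective (subtype_injective _),
    index_comap_of_surjective _ (QuotientGroup.mk'_surjective _), h1]

theorem mem_of_half {A H : Subgroup G} (h2 : H.relIndex A = 2) {x : G} (hx : x ∈ A) {k : ℕ} (hk : x ^ 3 ^ k = 1) :
    x ∈ H := by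
  have h1 := NegS.sq_mem_of_two h2 hx
  obtain ⟨m, hm⟩ : Odd (3 ^ k) := Odd.pow (by decide)
  have h3 : x = ((x * x) ^ m)⁻¹ := by
    rw [hm, pow_succ, pow_mul, pow_two] at hk
    exact eq_inv_of_mul_eq_one_right hk
  rw [h3]
  exact H.inv_mem (H.pow_mem h1 m)

/-- a `p`-element is conjugate into a given Sylow subgroup -/
theorem exists_conj_mem [Finite G] {H Q : Subgroup G} {p : ℕ} (hp : p.Prime) (hQ : Q ≤ H)
    (hc : Nat.card Q = p ^ (Nat.card H).factorization p) {x : G} (hx : x ∈ H) {k : ℕ} (hk : x ^ p ^ k = 1) :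
    ∃ s ∈ H, s * x * s⁻¹ ∈ Q := by
  haveI := Fact.mk hp
  have hz : IsPGroup p (zpowers (⟨x, hx⟩ : H)) := by
    obtain ⟨j, -, hj⟩ := (Nat.dvd_prime_pow hp).1 (orderOf_dvd_of_pow_eq_one hk)
    exact IsPGroup.of_card (n := j) (by rw [Nat.card_zpowers, Subgroup.orderOf_mk, hj])
  obtain ⟨P, hP⟩ := hz.exists_le_sylow
  obtain ⟨s, hs, h⟩ := NegS.sylow_conj hp hQ (P' := (P : Subgroup H).map H.subtype) (map_subtype_le _) hc
    (by rw [card_map_of_injective (subtype_injective _), P.card_eq_multiplicity])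
    (Nat.pow_succ_factorization_not_dvd Nat.card_pos.ne' hp)
  exact ⟨s, hs, (h x).1 ⟨⟨x, hx⟩, hP (mem_zpowers _), rfl⟩⟩

theorem card_norm_dvd [Finite G] {x : G} {p : ℕ} (hp : p.Prime) (hx : orderOf x = p) :
    Nat.card (normalizer ((zpowers x : Subgroup G) : Set G)) ∣ Nat.card (centralizer ({x} : Set G)) * (p - 1) := by
  rw [← ((zpowers x).normalizerMonoidHom.ker).card_mul_index, Subgroup.index_ker]
  refine Nat.mul_dvd_mul ?_ ?_
  · rw [Subgroup.normalizerMonoidHom_ker, ← Subgroup.card_map_of_injective (Subgroup.subtype_injective _)]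
    refine Subgroup.card_dvd_of_le ?_
    rintro _ ⟨y, hy, rfl⟩
    exact mem_centralizer_singleton_iff.2 (hy x (Subgroup.mem_zpowers x)).symm
  · have : IsCyclic (zpowers x) := inferInstance
    rw [← Nat.totient_prime hp, ← hx, ← Nat.card_zpowers, ← IsCyclic.card_mulAut]
    exact Subgroup.card_subgroup_dvd_card _

/-- the Sylow test with the Frattini argument -/
def syl (o k p c : ℕ) : Bool :=
  Nat.beq (o % p) 0 && (List.range (c + 1)).all fun m =>
    Nat.blt 0 (c % (m * k)) || Nat.blt 0 (o % m) || !(Nat.beq (o / m % p) 1)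

theorem false_of_syl [Finite G] {A L : Subgroup G} (hLA : L ≤ A) (hn : A ≤ normalizer (L : Set G)) {p c : ℕ}
    (hp : p.Prime) (h2 : ¬ p ^ 2 ∣ Nat.card G) (hc0 : 0 < c)
    (hc : ∀ x : G, orderOf x = p → Nat.card (normalizer ((zpowers x : Subgroup G) : Set G)) ∣ c)
    (h : syl (Nat.card L) (L.relIndex A) p c = true) : False := by
  simp only [syl, Bool.and_eq_true, Nat.beq_eq, List.all_eq_true, Bool.or_eq_true, Nat.blt_eq, Bool.not_eq_true',
    List.mem_range] at h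
  obtain ⟨h1, h3⟩ := h
  obtain ⟨x, -, hx, hP, hPc⟩ := NegS.exists_sub hp (Nat.dvd_of_mod_eq_zero h1)
  have hk : ¬ p ^ (1 + 1) ∣ Nat.card L := fun e => h2 (e.trans (card_subgroup_dvd_card L))
  obtain ⟨n, hn1, hn2⟩ := NegS.sylow_count hp hP (by rw [hPc, pow_one]) hk
  have h4 := NegS.frattini_card hp hP hLA hn (by rw [hPc, pow_one]) hk
  have h5 := (card_dvd_of_le (inf_le_right : A ⊓ normalizer ((zpowers x : Subgroup G) : Set G) ≤ _)).trans (hc x hx)
  rw [← h4] at h5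
  have hm : 0 < Nat.card (L ⊓ normalizer ((zpowers x : Subgroup G) : Set G) : Subgroup G) := Nat.card_pos
  generalize Nat.card (L ⊓ normalizer ((zpowers x : Subgroup G) : Set G) : Subgroup G) = m at hn2 h5 hm
  rcases h3 m (Nat.lt_succ_of_le (Nat.le_of_dvd hc0 ((Dvd.intro _ rfl).trans h5))) with (h6 | h6) | h6
  · exact h6.ne' (Nat.mod_eq_zero_of_dvd h5)
  · exact h6.ne' (Nat.mod_eq_zero_of_dvd (Dvd.intro _ hn2))
  · rw [← hn2, Nat.mul_div_cancel_left _ hm, hn1] at h6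
    simp at h6

end Cfsg.Agent.SP.NTh.NL
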